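import Groth.Agent.NormalLib.KrullAkizuki
import Mathlib.RingTheory.ZariskisMainTheorem

/-!
# Quasi-finiteness over points of codimension at most one
-/

set_option autoImplicit false
universe u

namespace QFCodimOneLib

theorem eq_of_le_of_under_eq {A B R0 : Type u} [CommRing A] [CommRing B] [Algebra A B]
    [CommRing R0] [Algebra A R0] (p : Ideal A) [p.IsPrime] [IsLocalization.AtPrime R0 p]
    [IsNoetherianRing R0] (hdim : ringKrullDim R0 ≤ 1)
    (P : Ideal B) [P.IsPrime] [Algebra.QuasiFiniteAt A P]
    (q1 q2 : Ideal B) [q1.IsPrime] [q2.IsPrime] (hP : P ≤ q1) (h12 : q1 ≤ q2)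
    (h1 : q1.under A = p) (h2 : q2.under A = p) : q1 = q2 := by
  classical
  refine le_antisymm h12 fun b hb2 => ?_
  by_contra hb1
  let L := P.ResidueField
  let p0 := P.under A
  have hp0 : p0 ≤ p := by rw [← h1]; exact Ideal.comap_mono hP
  let gA : A →+* L := algebraMap A L
  have hgA : RingHom.ker gA = p0 := by
    ext a
    rw [RingHom.mem_ker, show gA a = algebraMap B L (algebraMap A B a) from
      IsScalarTower.algebraMap_apply A B L a, Ideal.algebraMap_residueField_eq_zero]
    rfl
  have hunits : ∀ s : p.primeCompl, IsUnit (gA s) := fun s =>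
    isUnit_iff_ne_zero.2 fun h => s.2 (hp0 (hgA ▸ RingHom.mem_ker.2 h))
  let g : R0 →+* L := IsLocalization.lift hunits
  have hg : ∀ a, g (algebraMap A R0 a) = gA a := fun a => IsLocalization.lift_eq hunits a
  haveI : (RingHom.ker g).IsPrime := RingHom.ker_isPrime g
  let R := R0 ⧸ RingHom.ker g
  let ι : R →+* L := RingHom.kerLift g
  have hι : Function.Injective ι := RingHom.kerLift_injective g
  letI : Algebra R L := ι.toAlgebra
  haveI : IsDomain R := Ideal.Quotient.isDomain _
  haveI : Ring.KrullDimLE 1 R :=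
    Ring.krullDimLE_iff.2 ((ringKrullDim_le_of_surjective _ Ideal.Quotient.mk_surjective).trans hdim)
  haveI : FaithfulSMul R L := (faithfulSMul_iff_algebraMap_injective R L).2 hι
  let K := FractionRing R
  letI : Algebra K L := FractionRing.liftAlgebra R L
  haveI : IsScalarTower R K L := FractionRing.isScalarTower_liftAlgebra R L
  -- the residue field extension is finite
  let π : A →+* R := (Ideal.Quotient.mk (RingHom.ker g)).comp (algebraMap A R0)
  have hπ : ∀ a, algebraMap R L (π a) = gA a := fun a => hg a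
  let h : A →+* K := (algebraMap R K).comp π
  have hh : ∀ a, algebraMap K L (h a) = gA a := fun a => by
    rw [← hπ a]; exact (IsScalarTower.algebraMap_apply R K L (π a)).symm
  have hhker : p0 ≤ RingHom.ker h := fun a ha => by
    rw [RingHom.mem_ker]
    apply (algebraMap K L).injective
    rw [hh, map_zero, ← RingHom.mem_ker, hgA]
    exact ha
  have hhnd : p0.primeCompl ≤ Submonoid.comap h (IsUnit.submonoid K) := fun a ha =>
    isUnit_iff_ne_zero.2 fun e => ha (by
      have := hh a
      rw [e, map_zero] at this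
      exact hgA ▸ RingHom.mem_ker.2 this.symm)
  letI : Algebra p0.ResidueField K := (Ideal.ResidueField.lift p0 h hhker hhnd).toAlgebra
  letI := Localization.AtPrime.algebraOfLiesOver p0 P
  haveI : Module.Finite p0.ResidueField L := inferInstance
  haveI : IsScalarTower p0.ResidueField K L := IsScalarTower.of_algebraMap_eq' <|
    Ideal.ResidueField.ringHom_ext (RingHom.ext fun a => by
      show algebraMap p0.ResidueField L (algebraMap A p0.ResidueField a) =
        algebraMap K L (Ideal.ResidueField.lift p0 h hhker hhnd (algebraMap A p0.ResidueField a))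
      rw [Ideal.ResidueField.lift_algebraMap, hh, ← IsScalarTower.algebraMap_apply])
  haveI : FiniteDimensional K L := Module.Finite.of_restrictScalars_finite p0.ResidueField K L
  -- the ring generated by `R` and `B` inside `L`
  let gB : B →+* L := algebraMap B L
  have hAB : ∀ a, gB (algebraMap A B a) = gA a := fun a =>
    (IsScalarTower.algebraMap_apply A B L a).symm
  let B' : Subalgebra R L :=
    { carrier := {z | ∃ c : B, ∃ s : A, s ∉ p ∧ gA s * z = gB c}
      one_mem' := ⟨1, 1, ‹p.IsPrime›.one_notMem, by simp⟩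
      mul_mem' := by
        rintro x y ⟨c, s, hs, hx⟩ ⟨d, t, ht, hy⟩
        exact ⟨c * d, s * t, fun h => (‹p.IsPrime›.mem_or_mem h).elim hs ht,
          by rw [map_mul, map_mul, ← hx, ← hy]; ring⟩
      zero_mem' := ⟨0, 1, ‹p.IsPrime›.one_notMem, by simp⟩
      add_mem' := by
        rintro x y ⟨c, s, hs, hx⟩ ⟨d, t, ht, hy⟩
        refine ⟨c * algebraMap A B t + d * algebraMap A B s, s * t,
          fun h => (‹p.IsPrime›.mem_or_mem h).elim hs ht, ?_⟩
        rw [map_add, map_mul, map_mul, map_mul, hAB, hAB, ← hx, ← hy]; ring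
      algebraMap_mem' := by
        intro r
        obtain ⟨r, rfl⟩ := Ideal.Quotient.mk_surjective r
        obtain ⟨⟨a, s⟩, hr⟩ := IsLocalization.surj p.primeCompl r
        refine ⟨algebraMap A B a, s, s.2, ?_⟩
        rw [hAB, ← hg, ← hg]
        show g (algebraMap A R0 s) * g r = _
        rw [← map_mul, mul_comm, hr] }
  have hmem : ∀ c : B, gB c ∈ B' := fun c => ⟨c, 1, ‹p.IsPrime›.one_notMem, by simp⟩
  -- an element of `p` cutting out an artinian quotient
  obtain ⟨a, hap, hart⟩ : ∃ a ∈ p, IsArtinian R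
      (B' ⧸ (Ideal.span {π a} • ⊤ : Submodule R B')) := by
    by_cases hpp : p ≤ p0
    · refine ⟨0, p.zero_mem, ?_⟩
      have hRK : ∀ r : R, r ≠ 0 → IsUnit r := fun r hr => by
        obtain ⟨r, rfl⟩ := Ideal.Quotient.mk_surjective r
        refine IsUnit.map _ ?_
        obtain ⟨⟨a, s⟩, hr'⟩ := IsLocalization.surj p.primeCompl r
        have : IsUnit (algebraMap A R0 a) := by
          refine IsLocalization.map_units R0 (⟨a, fun ha => hr ?_⟩ : p.primeCompl)
          rw [Ideal.Quotient.eq_zero_iff_mem, RingHom.mem_ker]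
          have h0 : g r * g (algebraMap A R0 s) = 0 := by
            rw [← map_mul, hr', hg, ← RingHom.mem_ker, hgA]; exact hpp ha
          refine (mul_eq_zero.1 h0).resolve_right ?_
          rw [hg]; exact (hunits s).ne_zero
        rw [← hr'] at this
        exact isUnit_of_mul_isUnit_left this
      haveI : Module.Finite R K := by
        refine Module.Finite.of_surjective (Algebra.linearMap R K) fun z => ?_
        obtain ⟨r, s, hs, rfl⟩ := IsFractionRing.div_surjective R z
        obtain ⟨v, hv⟩ := hRK s (nonZeroDivisors.ne_zero hs)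
        refine ⟨r * ↑v⁻¹, ?_⟩
        have hs0 : algebraMap R K s ≠ 0 :=
          (map_ne_zero_iff _ (IsFractionRing.injective R K)).2 (nonZeroDivisors.ne_zero hs)
        show algebraMap R K (r * ↑v⁻¹) = _
        rw [eq_div_iff hs0, ← map_mul, mul_assoc, ← hv, Units.inv_mul, mul_one]
      haveI : Module.Finite R L := Module.Finite.trans K L
      haveI : IsArtinianRing R := by
        haveI : Ring.KrullDimLE 0 R := Ring.krullDimLE_zero_iff.2 fun I hI => by
          rw [Ideal.isMaximal_iff]
          refine ⟨hI.one_notMem, fun J x hIJ hx hxJ => ?_⟩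
          exact (Ideal.eq_top_iff_one J).1 (Ideal.eq_top_of_isUnit_mem J hxJ (hRK x fun e => hx (e ▸ I.zero_mem)))
        exact IsNoetherianRing.isArtinianRing_of_krullDimLE_zero
      haveI : IsArtinian R B' := isArtinian_submodule' (Subalgebra.toSubmodule B')
      infer_instance
    · obtain ⟨a, hap, hap0⟩ := SetLike.not_le_iff_exists.1 hpp
      refine ⟨a, hap, (isFiniteLength_iff_isNoetherian_isArtinian.1
        (NormalLib.isFiniteLength_quot K B' Subtype.val_injective fun e => hap0 ?_)).2⟩
      have := hπ a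
      rw [e, map_zero] at this
      exact hgA ▸ RingHom.mem_ker.2 this.symm
  haveI := hart
  let M := B' ⧸ (Ideal.span {π a} • ⊤ : Submodule R B')
  -- a descending chain of powers of `b`
  let J : ℕ →o (Submodule R M)ᵒᵈ :=
    ⟨fun n => OrderDual.toDual (Submodule.map (Submodule.mkQ _)
      ((Ideal.span {(⟨gB b, hmem b⟩ : B') ^ n}).restrictScalars R)),
    fun m n hmn => Submodule.map_mono fun z hz => by
      simp only [SetLike.mem_coe, Submodule.restrictScalars_mem, Ideal.mem_span_singleton] at hz ⊢
      exact (pow_dvd_pow _ hmn).trans hz⟩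
  obtain ⟨n, hn⟩ := IsArtinian.monotone_stabilizes J
  have hb : Submodule.Quotient.mk ((⟨gB b, hmem b⟩ : B') ^ n) ∈ OrderDual.ofDual (J (n + 1)) := by
    rw [← hn (n + 1) n.le_succ]
    exact ⟨_, Ideal.mem_span_singleton.2 dvd_rfl, rfl⟩
  obtain ⟨z, hz, hzb⟩ := hb
  simp only [SetLike.mem_coe, Submodule.restrictScalars_mem, Ideal.mem_span_singleton] at hz
  obtain ⟨⟨w, c, t, ht, hw⟩, rfl⟩ := hz
  have hspan := (Submodule.Quotient.eq _).1 hzb.symm
  rw [Submodule.ideal_span_singleton_smul, Submodule.mem_smul_pointwise_iff_exists] at hspan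
  obtain ⟨⟨v, d, s, hs, hv⟩, -, hvb⟩ := hspan
  have key : gB b ^ n - gB b ^ (n + 1) * w = gA a * v := by
    have := congrArg Subtype.val hvb
    simp only [Subalgebra.coe_sub, Subalgebra.coe_mul, SubmonoidClass.coe_pow] at this
    rw [← this, ← hπ a]
    exact (Algebra.smul_def (π a) (⟨v, d, s, hs, hv⟩ : B').1).symm
  have hP' : algebraMap A B (s * t) * b ^ n - algebraMap A B s * c * b ^ (n + 1)
      - algebraMap A B a * (algebraMap A B t * d) ∈ P := by
    rw [← Ideal.algebraMap_residueField_eq_zero]
    show gB _ = 0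
    simp only [map_sub, map_mul, map_pow, hAB]
    rw [← hw, ← hv]
    linear_combination gA s * gA t * key
  have hq : b ^ n * (algebraMap A B (s * t) - algebraMap A B s * c * b) ∈ q1 := by
    have ha : algebraMap A B a * (algebraMap A B t * d) ∈ q1 :=
      q1.mul_mem_right _ (show a ∈ q1.under A by rw [h1]; exact hap)
    have := q1.add_mem (hP hP') ha
    convert this using 1
    rw [pow_succ]; ring
  have hq2 : algebraMap A B (s * t) - algebraMap A B s * c * b ∈ q2 :=
    h12 ((‹q1.IsPrime›.mem_or_mem hq).resolve_left fun h => hb1 (‹q1.IsPrime›.mem_of_pow_mem n h))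
  have : algebraMap A B (s * t) ∈ q2 := by
    simpa using q2.add_mem hq2 (q2.mul_mem_left (algebraMap A B s * c) hb2)
  have hst : s * t ∈ p := h2 ▸ this
  exact (‹p.IsPrime›.mem_or_mem hst).elim hs ht

theorem quasiFiniteAt {A B R0 : Type u} [CommRing A] [CommRing B] [Algebra A B]
    [Algebra.FiniteType A B] [CommRing R0] [Algebra A R0] (q : PrimeSpectrum B)
    [IsLocalization.AtPrime R0 (q.asIdeal.under A)] [IsNoetherianRing R0] (hdim : ringKrullDim R0 ≤ 1)
    (hgen : ∀ (P : Ideal B) [P.IsPrime], P ∈ minimalPrimes B → Algebra.QuasiFiniteAt A P) :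
    Algebra.QuasiFiniteAt A q.asIdeal := by
  refine Algebra.QuasiFiniteAt.of_isOpen_singleton_fiber q ?_
  let p := q.comap (algebraMap A B)
  let e := PrimeSpectrum.preimageOrderIsoFiber A B p
  haveI : IsNoetherianRing (p.asIdeal.Fiber B) :=
    Algebra.FiniteType.isNoetherianRing p.asIdeal.ResidueField _
  have hzero : Ring.KrullDimLE 0 (p.asIdeal.Fiber B) := by
    refine Ring.krullDimLE_zero_iff.2 fun I hI => ?_
    obtain ⟨m, hm, hIm⟩ := Ideal.exists_le_maximal I hI.ne_top
    let x := e.symm ⟨I, hI⟩
    let y := e.symm ⟨m, hm.isPrime⟩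
    have hxy : x ≤ y := e.symm.monotone hIm
    obtain ⟨P, hPmin, hPx⟩ := Ideal.exists_minimalPrimes_le (I := (⊥ : Ideal B)) (J := x.1.asIdeal) bot_le
    haveI : P.IsPrime := hPmin.1.1
    haveI := hgen P hPmin
    have hx : x.1.asIdeal.under A = q.asIdeal.under A := congrArg PrimeSpectrum.asIdeal x.2
    have hy : y.1.asIdeal.under A = q.asIdeal.under A := congrArg PrimeSpectrum.asIdeal y.2
    have heq := eq_of_le_of_under_eq (q.asIdeal.under A) hdim P x.1.asIdeal y.1.asIdeal hPx hxy hx hy
    have : x = y := Subtype.ext (PrimeSpectrum.ext heq)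
    have hIM : I = m := congrArg PrimeSpectrum.asIdeal (e.symm.injective this)
    exact hIM ▸ hm
  haveI : IsArtinianRing (p.asIdeal.Fiber B) := IsNoetherianRing.isArtinianRing_of_krullDimLE_zero
  let e' := PrimeSpectrum.preimageHomeomorphFiber A B p
  rw [← e'.isOpen_image]
  exact isOpen_discrete _

end QFCodimOneLib
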