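import Groth.Agent.QFCodimOneLib.Alg
import Mathlib.AlgebraicGeometry.Morphisms.QuasiFinite
import Mathlib.Topology.Sober

/-!
# Quasi-finiteness over points of codimension at most one, schemes
-/

set_option autoImplicit false
universe u

open AlgebraicGeometry CategoryTheory TopologicalSpace

namespace QFCodimOneLib

theorem quasiFiniteAt_of_appLE {X Y : Scheme.{u}} (f : X ⟶ Y) {x : X} {V : X.Opens}
    (hV : IsAffineOpen V) {U : Y.Opens} (_hU : IsAffineOpen U) (hVU : V ≤ f ⁻¹ᵁ U) (hxV : x ∈ V.1)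
    (hx : (f.appLE U V hVU).hom.QuasiFiniteAt (hV.primeIdealOf ⟨x, hxV⟩).asIdeal) :
    f.QuasiFiniteAt x := by
  algebraize [(f.appLE U V hVU).hom, (X.presheaf.germ V x hxV).hom]
  have := hV.isLocalization_stalk ⟨x, hxV⟩
  let e := IsLocalization.algEquiv (hV.primeIdealOf ⟨x, hxV⟩).asIdeal.primeCompl
    (Localization.AtPrime (hV.primeIdealOf ⟨x, hxV⟩).asIdeal) (X.presheaf.stalk (⟨x, hxV⟩ : V.1))
  rw [RingHom.QuasiFiniteAt, Algebra.QuasiFiniteAt, ← RingHom.quasiFinite_algebraMap] at hx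
  refine RingHom.QuasiFinite.of_comp (g := (Y.presheaf.germ U _ (hVU hxV)).hom) ?_
  convert! (RingHom.QuasiFinite.of_finite e.finite).comp hx
  rw [← CommRingCat.hom_comp, f.germ_stalkMap, ← X.presheaf.germ_res (homOfLE hVU) _ hxV,
    Scheme.Hom.app_eq_appLE, Scheme.Hom.appLE_map_assoc, CommRingCat.hom_comp,
    IsScalarTower.algebraMap_eq Γ(Y, U) Γ(X, V), ← RingHom.comp_assoc]
  congr 1
  exact RingHom.ext fun r => (e.commutes r).symm

theorem main {X Y : Scheme.{u}} (f : X ⟶ Y) [LocallyOfFiniteType f] (y : Y)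
    [IsNoetherianRing (Y.presheaf.stalk y)] (hy : ringKrullDim (Y.presheaf.stalk y) ≤ 1)
    (hgen : ∀ Z ∈ irreducibleComponents (X : Type u), ∀ η : X, IsGenericPoint η Z → f.QuasiFiniteAt η)
    (x : X) (hx : f.base x = y) : f.QuasiFiniteAt x := by
  subst hx
  obtain ⟨_, ⟨U, hU, rfl⟩, hxU, -⟩ :=
    Y.isBasis_affineOpens.exists_subset_of_mem_open (Set.mem_univ (f x)) isOpen_univ
  obtain ⟨_, ⟨V, hV, rfl⟩, hxV, hVU⟩ :=
    X.isBasis_affineOpens.exists_subset_of_mem_open (show x ∈ f ⁻¹ᵁ U from hxU) (f ⁻¹ᵁ U).isOpen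
  have hft : (f.appLE U V hVU).hom.FiniteType := LocallyOfFiniteType.finiteType_appLE f hU hV hVU
  refine quasiFiniteAt_of_appLE f hV hU hVU hxV ?_
  algebraize [(f.appLE U V hVU).hom]
  letI := Y.presheaf.algebra_section_stalk (U := U) ⟨f x, hxU⟩
  have hloc := hU.isLocalization_stalk ⟨f x, hxU⟩
  have hp : (hU.primeIdealOf ⟨f x, hxU⟩).asIdeal = (hV.primeIdealOf ⟨x, hxV⟩).asIdeal.under Γ(Y, U) :=
    congr($(IsAffineOpen.comap_primeIdealOf_appLE U hU V hV hVU hxV).1).symm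
  haveI : IsLocalization.AtPrime (Y.presheaf.stalk (f x))
      ((hV.primeIdealOf ⟨x, hxV⟩).asIdeal.under Γ(Y, U)) := by
    show IsLocalization ((hV.primeIdealOf ⟨x, hxV⟩).asIdeal.under Γ(Y, U)).primeCompl _
    have e : ((hV.primeIdealOf ⟨x, hxV⟩).asIdeal.under Γ(Y, U)).primeCompl =
        (hU.primeIdealOf ⟨f x, hxU⟩).asIdeal.primeCompl := SetLike.ext fun a => by
      show a ∉ _ ↔ a ∉ _
      rw [hp]
    rw [e]
    exact hloc
  refine quasiFiniteAt (R0 := Y.presheaf.stalk (f x)) (hV.primeIdealOf ⟨x, hxV⟩) hy fun P hPp hPmin => ?_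
  let η : X := hV.fromSpec ⟨P, hPp⟩
  have hηV : η ∈ V := hV.range_fromSpec.le (Set.mem_range_self _)
  let ζc : Set X := irreducibleComponent η
  have hirr : IsIrreducible ζc := isIrreducible_irreducibleComponent
  obtain ⟨ζ, hζ⟩ := QuasiSober.sober hirr isClosed_irreducibleComponent
  have hsp : ζ ⤳ η := hζ.specializes mem_irreducibleComponent
  have hζV : ζ ∈ V := hsp.mem_open V.isOpen hηV
  have hle : hV.primeIdealOf ⟨ζ, hζV⟩ ≤ ⟨P, hPp⟩ := by
    have h' : hV.fromSpec (hV.primeIdealOf ⟨ζ, hζV⟩) ⤳ hV.fromSpec ⟨P, hPp⟩ := by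
      rw [IsAffineOpen.fromSpec_primeIdealOf]
      exact hsp
    exact (PrimeSpectrum.le_iff_specializes _ _).2 (hV.fromSpec.isOpenEmbedding.isInducing.specializes_iff.1 h')
  have heq : (hV.primeIdealOf ⟨ζ, hζV⟩).asIdeal = P :=
    le_antisymm hle (hPmin.2 ⟨inferInstance, bot_le⟩ hle)
  have := Scheme.Hom.QuasiFiniteAt.quasiFiniteAt (hgen _ (irreducibleComponent_mem_irreducibleComponents η) ζ hζ) hV hU hVU hζV
  simp only [RingHom.QuasiFiniteAt] at this
  convert this using 1 <;> simp only [heq]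

end QFCodimOneLib
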